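import Mathlib
import Cfsg.Agent.LieClassical.OrthTrans
import Cfsg.Agent.H530.CW

/-!
# Singular vectors fixed by `p`-groups of isometries (helper510, for S2451)

`p` the characteristic, `X` a `p`-group of isometries of `Q`.

* `card_zeros` : the number of zeros of a quadratic form in at least 3 variables is divisible by `p`;
* `exists_rel` : `S ≤ U` stable under `X`, `Q (u + s) = Q u`, `dim U ≥ dim S + 3`: there is a singular `v ∈ U`, `v ∉ S`, with
  `x v - v ∈ S` for all `x ∈ X`;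
* `exists_fix` : the case `S = 0`.
-/

set_option autoImplicit false
set_option linter.unusedSectionVars false

namespace Cfsg.Agent.H510.OA

open QuadraticMap Module Cfsg.Agent.LieClassical.OrthCore Cfsg.Agent.LieClassical.OrthTrans

section cw

variable {F M : Type*} [Field F] [Finite F] {p : ℕ} [Fact p.Prime] [CharP F p] [AddCommGroup M] [Module F M]

theorem card_zeros (q : QuadraticForm F M) (h : 3 ≤ finrank F M) : p ∣ Nat.card {v : M // q v = 0} := by
  classical
  have hF : Fintype F := Fintype.ofFinite F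
  have hM : Module.Finite F M := Module.finite_of_finrank_pos (by omega)
  obtain ⟨B, hB⟩ := LinearMap.BilinMap.toQuadraticMap_surjective q
  let b := finBasis F M
  let A : Matrix (Fin (finrank F M)) (Fin (finrank F M)) F := Matrix.of fun i j => B (b i) (b j)
  have hdvd := char_dvd_card_solutions p (f := H530.CW.quad A)
    (lt_of_le_of_lt (H530.CW.totalDegree_quad A) (by rw [Fintype.card_fin]; omega))
  have key : ∀ v : M, q v = MvPolynomial.eval (b.equivFun v) (H530.CW.quad A) := by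
    intro v
    have e1 : q v = B v v := by rw [← hB]; rfl
    rw [e1, H530.CW.eval_quad]
    conv_lhs => rw [← b.sum_equivFun v]
    rw [map_sum B, LinearMap.sum_apply, dotProduct]
    refine Finset.sum_congr rfl fun i _ => ?_
    rw [map_smul B, LinearMap.smul_apply, smul_eq_mul, map_sum, Matrix.mulVec, dotProduct]
    congr 1
    refine Finset.sum_congr rfl fun j _ => ?_
    rw [map_smul, smul_eq_mul, mul_comm]
    rfl
  have e : {v : M // q v = 0} ≃
      {x : Fin (finrank F M) → F // MvPolynomial.eval x (H530.CW.quad A) = 0} :=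
    (b.equivFun.toEquiv).subtypeEquiv (fun v => by rw [key v]; rfl)
  rw [Nat.card_congr e, Nat.card_eq_fintype_card]
  exact hdvd

/-- A `p`-group of isometries fixes a nonzero zero. -/
theorem exists_fixed_zero [Finite M] (q : QuadraticForm F M) (h : 3 ≤ finrank F M) {X : Type*} [Group X]
    (hX : IsPGroup p X) (ρ : X →* Module.End F M) (hρ : ∀ x v, q (ρ x v) = q v) :
    ∃ v, v ≠ 0 ∧ q v = 0 ∧ ∀ x, ρ x v = v := by
  classical
  have hp : p.Prime := Fact.out
  let act : MulAction X {v : M // q v = 0} :=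
    { smul := fun x v => ⟨ρ x v.1, by rw [hρ]; exact v.2⟩
      one_smul := fun v => Subtype.ext (by
        change ρ 1 v.1 = v.1
        rw [map_one]; rfl)
      mul_smul := fun x y v => Subtype.ext (by
        change ρ (x * y) v.1 = ρ x (ρ y v.1)
        rw [map_mul]; rfl) }
  have hsm : ∀ (x : X) (v : {v : M // q v = 0}), ((x • v : {v : M // q v = 0}) : M) = ρ x v.1 := fun _ _ => rfl
  have h1 := hX.card_modEq_card_fixedPoints {v : M // q v = 0}
  have h2 : p ∣ Nat.card (MulAction.fixedPoints X {v : M // q v = 0}) :=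
    Nat.modEq_zero_iff_dvd.1 (h1.symm.trans (Nat.modEq_zero_iff_dvd.2 (card_zeros q h)))
  have h0 : (⟨0, QuadraticMap.map_zero q⟩ : {v : M // q v = 0}) ∈
      MulAction.fixedPoints X {v : M // q v = 0} := fun x => Subtype.ext (by rw [hsm, map_zero])
  have h3 : 0 < Nat.card (MulAction.fixedPoints X {v : M // q v = 0}) :=
    Nat.card_pos_iff.2 ⟨⟨⟨_, h0⟩⟩, inferInstance⟩
  have h4 : 1 < Nat.card (MulAction.fixedPoints X {v : M // q v = 0}) :=
    lt_of_lt_of_le hp.one_lt (Nat.le_of_dvd h3 h2)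
  have h5 : Nontrivial (MulAction.fixedPoints X {v : M // q v = 0}) := Finite.one_lt_card_iff_nontrivial.1 h4
  obtain ⟨⟨⟨u, hu⟩, hfix⟩, hne⟩ := _root_.exists_ne (⟨_, h0⟩ : MulAction.fixedPoints X {v : M // q v = 0})
  exact ⟨u, fun h => hne (Subtype.ext (Subtype.ext h)), hu, fun x => congrArg Subtype.val (hfix x)⟩

end cw

section rel

variable {F V : Type*} [Field F] [Finite F] {p : ℕ} [Fact p.Prime] [CharP F p] [AddCommGroup V] [Module F V]
  [FiniteDimensional F V] {Q : QuadraticForm F V}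

theorem finrank_map_mkQ {S U : Submodule F V} (hSU : S ≤ U) :
    finrank F (U.map S.mkQ) + finrank F S = finrank F U := by
  have h1 := LinearMap.finrank_range_add_finrank_ker (S.mkQ.domRestrict U)
  have h2 : LinearMap.range (S.mkQ.domRestrict U) = U.map S.mkQ := by
    rw [LinearMap.range_domRestrict]
  have h3 : LinearMap.ker (S.mkQ.domRestrict U) = S.comap U.subtype := by
    rw [LinearMap.ker_domRestrict, Submodule.ker_mkQ]
  rw [h2, h3, (Submodule.comapSubtypeEquivOfLe hSU).finrank_eq] at h1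
  exact h1

/-- the relative version -/
theorem exists_rel {X : Subgroup (V ≃ₗ[F] V)} (hX : IsPGroup p X) (hXO : X ≤ O Q) {S U : Submodule F V}
    (hSU : S ≤ U) (hS : ∀ x ∈ X, ∀ s ∈ S, x s ∈ S) (hU : ∀ x ∈ X, ∀ u ∈ U, x u ∈ U)
    (hQ : ∀ u ∈ U, ∀ s ∈ S, Q (u + s) = Q u) (hd : finrank F S + 3 ≤ finrank F U) :
    ∃ v ∈ U, v ∉ S ∧ Q v = 0 ∧ ∀ x ∈ X, x v - v ∈ S := by
  classical
  have hfV : Finite V := Module.finite_of_finite F
  obtain ⟨σ, hσ⟩ := LinearMap.exists_rightInverse_of_surjective S.mkQ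
    (LinearMap.range_eq_top.2 (Submodule.mkQ_surjective S))
  have hσ' : ∀ z, S.mkQ (σ z) = z := fun z => LinearMap.congr_fun hσ z
  have hq : ∀ v ∈ U, Q (σ (S.mkQ v)) = Q v := by
    intro v hv
    have h1 : σ (S.mkQ v) - v ∈ S := by
      rw [← Submodule.Quotient.eq]
      exact hσ' _
    have h2 : σ (S.mkQ v) = v + (σ (S.mkQ v) - v) := by abel
    rw [h2, hQ v hv _ h1]
  -- the action
  let ρ₀ : ↥X → Module.End F (V ⧸ S) := fun x => S.mapQ S ((x : V ≃ₗ[F] V) : V →ₗ[F] V) (fun s hs => hS x x.2 s hs)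
  have hρ₀ : ∀ x v, ρ₀ x (S.mkQ v) = S.mkQ ((x : V ≃ₗ[F] V) v) := fun x v => rfl
  have hM : ∀ (x : ↥X), ∀ z ∈ U.map S.mkQ, ρ₀ x z ∈ U.map S.mkQ := by
    rintro x _ ⟨v, hv, rfl⟩
    exact ⟨(x : V ≃ₗ[F] V) v, hU x x.2 v hv, rfl⟩
  let ρ : ↥X →* Module.End F (U.map S.mkQ) :=
    { toFun := fun x => (ρ₀ x).restrict (hM x)
      map_one' := by
        ext ⟨z, v, hv, rfl⟩
        rfl
      map_mul' := fun x y => by
        ext ⟨z, v, hv, rfl⟩
        rfl }
  have hρ : ∀ x (z : U.map S.mkQ), ((ρ x z : U.map S.mkQ) : V ⧸ S) = ρ₀ x z := fun _ _ => rfl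
  let q : QuadraticForm F (U.map S.mkQ) := Q.comp (σ ∘ₗ (U.map S.mkQ).subtype)
  have hqa : ∀ z, q z = Q (σ z) := fun _ => rfl
  have hfM : Finite (U.map S.mkQ) := Module.finite_of_finite F
  obtain ⟨⟨z, hz⟩, hz0, hz1, hz2⟩ := exists_fixed_zero q (by
    have := finrank_map_mkQ hSU
    omega) hX ρ (by
    rintro x ⟨_, v, hv, rfl⟩
    rw [hqa, hqa, hρ, hρ₀, hq _ (hU x x.2 v hv), hq v hv]
    exact hXO x.2 v)
  obtain ⟨v, hv, rfl⟩ := hz
  refine ⟨v, hv, fun hvS => hz0 (Subtype.ext ?_), ?_, fun x hx => ?_⟩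
  · exact (Submodule.Quotient.mk_eq_zero S).2 hvS
  · rw [← hq v hv]
    exact hz1
  · rw [← Submodule.Quotient.eq]
    exact congrArg Subtype.val (hz2 ⟨x, hx⟩)

/-- the absolute version -/
theorem exists_fix {X : Subgroup (V ≃ₗ[F] V)} (hX : IsPGroup p X) (hXO : X ≤ O Q) {U : Submodule F V}
    (hU : ∀ x ∈ X, ∀ u ∈ U, x u ∈ U) (hd : 3 ≤ finrank F U) :
    ∃ v ∈ U, v ≠ 0 ∧ Q v = 0 ∧ ∀ x ∈ X, x v = v := by
  obtain ⟨v, h1, h2, h3, h4⟩ := exists_rel (S := ⊥) hX hXO bot_le
    (fun x _ s hs => by rw [(Submodule.mem_bot F).1 hs, map_zero]; exact Submodule.zero_mem _) hU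
    (fun u _ s hs => by rw [(Submodule.mem_bot F).1 hs, add_zero]) (by rw [finrank_bot]; omega)
  exact ⟨v, h1, fun h => h2 ((Submodule.mem_bot F).2 h), h3, fun x hx => sub_eq_zero.1 ((Submodule.mem_bot F).1 (h4 x hx))⟩

end rel

end Cfsg.Agent.H510.OA
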