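import Cfsg.Agent.H510.OA.Odd
import Cfsg.Agent.H27.AH.Main

/-!
# S2451 (A), the row `PΩ_{2m+1}(q)`, `q` odd: the theorem (helper510)

`notA_oodd` : `NotA p (POmega F (quadFormOdd m F))`.
-/

set_option autoImplicit false
set_option linter.unusedSectionVars false

namespace Cfsg.Agent.H510.OA

open QuadraticMap Module Cfsg Cfsg.Agent.LieClassical.OrthCore Cfsg.Agent.LieClassical.OrthTrans
open Cfsg.Agent.ClassicalGeometry.OrthSemi Cfsg.Agent.ClassicalGeometry.OrthAut1 Cfsg.Agent.AutOrth.Main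
open Cfsg.Agent.LieClassical.QuadForms Cfsg.Agent.H208.Dict
open Cfsg.Agent.H200.RowOrth Cfsg.Agent.H330.ClassSub
open Cfsg.Agent.H862.T5.OBase (BB frm_polar BB_apply nd_top)

section abs

variable {F V : Type*} [Field F] [Finite F] [AddCommGroup V] [Module F V] [FiniteDimensional F V]
  {Q : QuadraticForm F V} {p : ℕ} [Fact p.Prime] [CharP F p]

theorem polar_of_ts {S : Submodule F V} (hS : ∀ s ∈ S, Q s = 0) {u v : V} (hu : u ∈ S) (hv : v ∈ S) :
    polar Q u v = 0 := ti_of_ts hS u hu v hv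

theorem inv_mem_of_map {S : Submodule F V} {x : V ≃ₗ[F] V} (hx : ∀ s ∈ S, x s ∈ S) {s : V} (hs : s ∈ S) :
    (x⁻¹ : V ≃ₗ[F] V) s ∈ S := by
  have hmap : S.map (x : V →ₗ[F] V) = S := by
    apply Submodule.eq_of_le_of_finrank_eq
    · rintro _ ⟨s, hs, rfl⟩
      exact hx s hs
    · exact LinearEquiv.finrank_map_eq x S
  rw [← hmap] at hs
  obtain ⟨t, ht, rfl⟩ := hs
  have : (x⁻¹ : V ≃ₗ[F] V) (x t) = t := x.symm_apply_apply t
  rw [LinearEquiv.coe_coe, this]
  exact ht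

/-- the elements of `E Q` trivial on `S^⊥ / S` -/
def HS (Q : QuadraticForm F V) {S : Submodule F V} (hS : ∀ s ∈ S, Q s = 0) : Subgroup ↥(E Q) where
  carrier := {h | ∀ v, (∀ s ∈ S, polar Q v s = 0) → (h : V ≃ₗ[F] V) v - v ∈ S}
  mul_mem' := by
    intro g h hg hh v hv
    have h1 : ∀ s ∈ S, (g : V ≃ₗ[F] V) s ∈ S := fun s hs => by
      have := hg s (fun t ht => polar_of_ts hS hs ht)
      have h2 := S.add_mem this hs
      rwa [sub_add_cancel] at h2
    have e : ((g * h : ↥(E Q)) : V ≃ₗ[F] V) v - v = (g : V ≃ₗ[F] V) ((h : V ≃ₗ[F] V) v - v) + ((g : V ≃ₗ[F] V) v - v) := by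
      rw [map_sub, Subgroup.coe_mul, LinearEquiv.mul_apply]
      abel
    rw [e]
    exact S.add_mem (h1 _ (hh v hv)) (hg v hv)
  one_mem' := by
    intro v _
    have e : ((1 : ↥(E Q)) : V ≃ₗ[F] V) v - v = 0 := sub_self v
    rw [e]
    exact S.zero_mem
  inv_mem' := by
    intro g hg v hv
    have h1 : ∀ s ∈ S, (g : V ≃ₗ[F] V) s ∈ S := fun s hs => by
      have := hg s (fun t ht => polar_of_ts hS hs ht)
      have h2 := S.add_mem this hs
      rwa [sub_add_cancel] at h2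
    have e0 : (g : V ≃ₗ[F] V) (((g⁻¹ : ↥(E Q)) : V ≃ₗ[F] V) v) = v := (g : V ≃ₗ[F] V).apply_symm_apply v
    have h3 : ∀ s ∈ S, polar Q (((g⁻¹ : ↥(E Q)) : V ≃ₗ[F] V) v) s = 0 := fun s hs => by
      rw [← polar_isom (E_le_O g.2), e0]
      exact hv _ (h1 s hs)
    have h4 := hg _ h3
    rw [e0] at h4
    have e : ((g⁻¹ : ↥(E Q)) : V ≃ₗ[F] V) v - v = -(v - ((g⁻¹ : ↥(E Q)) : V ≃ₗ[F] V) v) := by abel
    rw [e]
    exact S.neg_mem h4

theorem mem_HS {S : Submodule F V} {hS : ∀ s ∈ S, Q s = 0} {h : ↥(E Q)} :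
    h ∈ HS Q hS ↔ ∀ v, (∀ s ∈ S, polar Q v s = 0) → (h : V ≃ₗ[F] V) v - v ∈ S := Iff.rfl

theorem siegel_pow {u w : V} (hu : Q u = 0) (hw : polar Q u w = 0) (n : ℕ) :
    ∀ v, ((siegel Q u w hu hw) ^ n) v = siegelLin Q u ((n : F) • w) v := by
  induction n with
  | zero =>
    intro v
    rw [siegelLin_apply]
    simp
  | succ n ih =>
    intro v
    rw [pow_succ, LinearEquiv.mul_apply, ih]
    have h1 : siegel Q u w hu hw v = siegelLin Q u w v := rfl
    rw [h1, siegelLin_comp hu (by rw [polar_smul_right, hw, smul_zero]) hw]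
    congr 1
    rw [Nat.cast_succ, add_smul, one_smul]

theorem siegel_pow_p {u w : V} (hu : Q u = 0) (hw : polar Q u w = 0) : (siegel Q u w hu hw) ^ p = 1 := by
  apply LinearEquiv.ext
  intro v
  rw [siegel_pow, CharP.cast_eq_zero, zero_smul, siegelLin_apply]
  simp

theorem notA_odd_abs (hG : Good Q) (h2 : (2 : F) ≠ 0) {m : ℕ} (hm : 1 ≤ m) (hV : finrank F V = 2 * m + 1)
    (hS : FixBN.HasSplit p (P Q)) : H27.AH.NotA p (P Q) := by
  have hp : p.Prime := Fact.out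
  have hfV : Finite V := Module.finite_of_finite F
  have hfE : Finite ↥(E Q) := finite_E
  have hp2 : p ≠ 2 := by
    rintro rfl
    exact h2 (CharP.cast_eq_zero F 2)
  set hB := frm_polar Q with hBd
  -- a maximal totally singular subspace
  obtain ⟨S₁, -, -, hS₁d, -, hS₁Q⟩ := exists_chain (Q := Q) (p := p) (X := ⊥) (IsPGroup.of_bot) bot_le (U := ⊤)
    (fun _ _ _ _ => trivial) bot_le (S₀ := ⊥) (fun x _ s hs => by
      rw [(Submodule.mem_bot F).1 hs, map_zero]; exact Submodule.zero_mem _)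
    (fun s hs => by rw [(Submodule.mem_bot F).1 hs, QuadraticMap.map_zero]) m (by rw [finrank_bot]; omega)
    (by rw [finrank_top]; omega)
  obtain ⟨S₀, hS₀S, hS₀d⟩ := H951.exists_sub S₁ (a := m - 1) (by omega)
  have hS₀Q : ∀ s ∈ S₀, Q s = 0 := fun s hs => hS₁Q s (hS₀S hs)
  obtain ⟨u, hu1, hu0⟩ : ∃ u ∈ S₁, u ∉ S₀ := by
    by_contra hno
    push Not at hno
    have := Submodule.finrank_mono (show S₁ ≤ S₀ from hno)
    omega
  have hTI := ti_of_ts hS₁Q
  obtain ⟨w, hw1, hw0⟩ : ∃ w ∈ hB.perp S₁, w ∉ S₁ := by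
    by_contra hno
    push Not at hno
    have h3 := Submodule.finrank_mono (show hB.perp S₁ ≤ S₁ from hno)
    have h4 := hB.finrank_add_perp_ge S₁
    omega
  have hwQ : Q w ≠ 0 := by
    intro hw
    have h3 : ∀ s ∈ S₁ ⊔ F ∙ w, Q s = 0 := by
      intro s hs
      obtain ⟨t, ht, z, hz, rfl⟩ := Submodule.mem_sup.1 hs
      obtain ⟨c, rfl⟩ := Submodule.mem_span_singleton.1 hz
      have h5 : polar Q w t = 0 := hw1 t ht
      rw [Q_add, QuadraticMap.map_smul, hw, hS₁Q t ht, polar_smul_right, polar_comm, h5]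
      simp
    have h4 := hB.two_mul_finrank_le (nd_top hG.nondeg) le_top (ti_of_ts h3)
    rw [finrank_sup_span hw0, finrank_top] at h4
    omega
  have huQ : Q u = 0 := hS₁Q u hu1
  have huw : polar Q u w = 0 := by
    rw [polar_comm]
    exact hw1 u hu1
  let g : ↥(E Q) := ⟨siegel Q u w huQ huw, siegel_mem_E huQ huw⟩
  have hga : ∀ v, (g : V ≃ₗ[F] V) v = v + polar Q u v • w - polar Q w v • u - (Q w * polar Q u v) • u :=
    siegel_apply huQ huw
  have hgp : ∃ k : ℕ, g ^ p ^ k = 1 := by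
    refine ⟨1, Subtype.ext ?_⟩
    rw [pow_one]
    exact siegel_pow_p (p := p) huQ huw
  have hgS : ∀ s ∈ S₀, (g : V ≃ₗ[F] V) s = s := by
    intro s hs
    have h3 : polar Q u s = 0 := polar_of_ts hS₁Q hu1 (hS₀S hs)
    have h4 : polar Q w s = 0 := hw1 s (hS₀S hs)
    rw [hga, h3, h4]
    simp
  have hg : g ∉ HS Q hS₀Q := by
    intro hg
    have h3 := hg w (fun s hs => hw1 s (hS₀S hs))
    rw [hga, huw, polar_self'] at h3
    have e : w + (0 : F) • w - (2 * Q w) • u - (Q w * 0) • u - w = (-(2 * Q w)) • u := by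
      rw [mul_zero, zero_smul, zero_smul, neg_smul]
      abel
    rw [e] at h3
    apply hu0
    have h4 : -(2 * Q w) ≠ 0 := neg_ne_zero.2 (mul_ne_zero h2 hwQ)
    have h5 := S₀.smul_mem (-(2 * Q w))⁻¹ h3
    rwa [smul_smul, inv_mul_cancel₀ h4, one_smul] at h5
  have hn : ∀ h ∈ HS Q hS₀Q, g * h * g⁻¹ ∈ HS Q hS₀Q := by
    intro h hh v hv
    have e0 : (g : V ≃ₗ[F] V) (((g⁻¹ : ↥(E Q)) : V ≃ₗ[F] V) v) = v := (g : V ≃ₗ[F] V).apply_symm_apply v
    set v' := ((g⁻¹ : ↥(E Q)) : V ≃ₗ[F] V) v with hv'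
    have h3 : ∀ s ∈ S₀, polar Q v' s = 0 := fun s hs => by
      rw [← polar_isom (E_le_O g.2), e0, hgS s hs]
      exact hv _ hs
    have h4 := hh v' h3
    have e : ((g * h * g⁻¹ : ↥(E Q)) : V ≃ₗ[F] V) v - v = (g : V ≃ₗ[F] V) ((h : V ≃ₗ[F] V) v' - v') := by
      rw [map_sub, e0]
      rfl
    rw [e, hgS _ h4]
    exact h4
  refine notA_of_linear (p := p) (π := QuotientGroup.mk' (Subgroup.center ↥(E Q))) hS
    (QuotientGroup.mk'_surjective _) (by rw [QuotientGroup.ker_mk'])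
    (by rw [QuotientGroup.ker_mk']; exact not_dvd_center hG hp2) hg hgp hn ?_
  intro a har ha1 X hX hXa
  have ha1' : (a : V ≃ₗ[F] V) ≠ 1 := by
    intro h
    apply ha1
    have h3 : a = 1 := Subtype.ext h
    rw [h3, map_one]
  have hdet : LinearEquiv.det (a : V ≃ₗ[F] V) = 1 := by
    have h3 : (a : V ≃ₗ[F] V) ∈ ⁅O Q, O Q⁆ := by rw [hG.commutator_eq_E]; exact a.2
    have h1 : ⁅O Q, O Q⁆ ≤ (LinearEquiv.det (R := F) (M := V)).ker := by
      rw [Subgroup.commutator_le]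
      intro a _ b _
      rw [MonoidHom.mem_ker, map_commutatorElement, commutatorElement_eq_one_iff_mul_comm, mul_comm]
    exact h1 h3
  obtain ⟨S, hSQ, hSd, hSX⟩ := exists_S (p := p) (X := X.map (E Q).subtype) hG.nondeg h2 hV (E_le_O a.2) hdet
    (r := orderOf a) (congrArg Subtype.val (pow_orderOf_eq_one a)) har ha1' (hX.map _)
    (by
      rintro _ ⟨x, -, rfl⟩
      exact E_le_O x.2)
    (by
      rintro _ ⟨x, hx, rfl⟩
      exact congrArg Subtype.val (hXa x hx))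
  obtain ⟨k, hk, hk1, -, hk3⟩ := exists_trans hG hSQ hS₀Q (by omega) (by omega)
  refine ⟨⟨k, hk⟩, fun x hx v hv => ?_⟩
  have e0 : k ((k⁻¹ : V ≃ₗ[F] V) v) = v := k.apply_symm_apply v
  set v' := (k⁻¹ : V ≃ₗ[F] V) v with hv'
  have h3 := hSX _ ⟨x, hx, rfl⟩ v' (hk3 v' (by rw [e0]; exact hv))
  have h4 := hk1 _ h3
  rw [map_sub, e0] at h4
  exact h4

end abs

/-- **The row `PΩ_{2m+1}(q)` of (A).** -/
theorem notA_oodd {p : ℕ} (F : Type) [Field F] [Fintype F] [CharP F p] (m : ℕ) (hm : 3 ≤ m)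
    (ho : Odd (Fintype.card F)) : H27.AH.NotA p (POmega F (quadFormOdd m F)) := by
  have hp : p.Prime := CharP.char_is_prime F p
  have hpf : Fact p.Prime := ⟨hp⟩
  have h2 : (2 : F) ≠ 0 := by
    intro h0
    have h3 : CharP F 2 := (CharP.charP_iff_prime_eq_zero Nat.prime_two).2 (by exact_mod_cast h0)
    have h4 := FiniteField.even_card_of_char_two ((CharP.eq F (ringChar.charP F) h3))
    rw [Nat.odd_iff] at ho
    omega
  have hG : Good (oddForm m F) := good_odd (by omega) h2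
  have hfV : Finite (Unit ⊕ (Fin m ⊕ Fin m) → F) := inferInstance
  have hfE : Finite ↥(E (oddForm m F)) := finite_E
  have e : POmega F (quadFormOdd m F) ≃* P (oddForm m F) := by
    rw [← coe_oddForm]
    exact pe hG
  have hL : IsLieTypeChar p (P (oddForm m F)) := by
    refine Or.inr (Or.inr (Or.inr (Or.inl ?_)))
    exact ⟨F, inferInstance, inferInstance, inferInstance, m, hm, ho, ⟨e.symm⟩⟩
  have hs : IsSimpleGroup (P (oddForm m F)) := H400.LieSimple.isSimple_of_lie hL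
  have hS : FixBN.HasSplit p (P (oddForm m F)) := H27.AH.hasSplit_of_ab (H716.SplitAb.hasSplitAb_of_lie hp hL)
  refine H27.AH.NotA.of_equiv e (notA_odd_abs hG h2 (m := m) (by omega) ?_ hS)
  rw [Module.finrank_fintype_fun_eq_card]
  simp
  omega

end Cfsg.Agent.H510.OA
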